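import Mathlib

/-!
# Invariants of a finite group of invertible order acting on a finitely presented algebra

Main result: `finitePresentation_fixedPoints`.
-/

namespace Groth.Agent.Lib.Helper6.InvFP.Main

open scoped TensorProduct

section Reynolds

variable {R B G : Type*} [CommRing R] [CommRing B] [Algebra R B] [Group G] [Fintype G]
  [MulSemiringAction G B] [SMulCommClass G R B]

/-- Reynolds operator `b ↦ u • ∑ g, g • b` (a projector onto the invariants when `|G| u = 1`). -/
noncomputable def rey (G : Type*) [Group G] [Fintype G] [MulSemiringAction G B]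
    [SMulCommClass G R B] (u : R) : B →ₗ[R] B :=
  u • ∑ g : G, (MulSemiringAction.toAlgHom R B g).toLinearMap

lemma rey_apply (u : R) (b : B) : rey G u b = u • ∑ g : G, g • b := by
  simp [rey]

lemma smul_rey (u : R) (h : G) (b : B) : h • rey G u b = rey G u b := by
  rw [rey_apply, smul_comm, Finset.smul_sum]
  congr 1
  simp_rw [smul_smul]
  exact Fintype.sum_equiv (Equiv.mulLeft h) _ _ (fun g => rfl)

lemma rey_mem (u : R) (b : B) : rey G u b ∈ FixedPoints.subalgebra R B G :=
  fun h => smul_rey u h b

lemma rey_of_fixed {u : R} (hu : (Fintype.card G : R) * u = 1) {b : B}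
    (hb : ∀ g : G, g • b = b) : rey G u b = b := by
  rw [rey_apply]
  simp only [hb, Finset.sum_const, Finset.card_univ]
  rw [← Nat.cast_smul_eq_nsmul R, smul_smul, mul_comm, hu, one_smul]

lemma rey_mul_of_fixed (u : R) {c : B} (hc : ∀ g : G, g • c = c) (b : B) :
    rey G u (c * b) = c * rey G u b := by
  simp only [rey_apply, smul_mul', hc, ← Finset.mul_sum, mul_smul_comm]

/-- Reynolds operator as a map linear over the invariants. -/
noncomputable def reyC (G : Type*) [Group G] [Fintype G] [MulSemiringAction G B]
    [SMulCommClass G R B] (u : R) :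
    B →ₗ[FixedPoints.subalgebra R B G] FixedPoints.subalgebra R B G where
  toFun b := ⟨rey G u b, rey_mem u b⟩
  map_add' x y := Subtype.ext (map_add _ _ _)
  map_smul' c x := Subtype.ext (by
    simp only [RingHom.id_apply]
    rw [Subalgebra.smul_def, smul_eq_mul]
    exact rey_mul_of_fixed u c.2 x)

lemma reyC_apply (u : R) (b : B) : ((reyC G u b : FixedPoints.subalgebra R B G) : B) = rey G u b :=
  rfl

instance isInvariant_fixedPoints : Algebra.IsInvariant (FixedPoints.subalgebra R B G) B G :=
  ⟨fun b hb => ⟨⟨b, hb⟩, rfl⟩⟩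

lemma finite_over_invariants [Algebra.FiniteType R B] :
    Module.Finite (FixedPoints.subalgebra R B G) B := by
  have : Algebra.IsIntegral (FixedPoints.subalgebra R B G) B :=
    Algebra.IsInvariant.isIntegral _ _ G
  have : Algebra.FiniteType (FixedPoints.subalgebra R B G) B :=
    Algebra.FiniteType.of_restrictScalars_finiteType R _ _
  exact Algebra.IsIntegral.finite

/-- Noether's finiteness theorem over a Noetherian base. -/
lemma finiteType_invariants_of_noetherian [IsNoetherianRing R] [Algebra.FiniteType R B] :
    Algebra.FiniteType R (FixedPoints.subalgebra R B G) := by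
  have h := finite_over_invariants (R := R) (B := B) (G := G)
  exact ⟨fg_of_fg_of_fg R (FixedPoints.subalgebra R B G) B Algebra.FiniteType.out h.fg_top
    Subtype.val_injective⟩

end Reynolds

section BaseChange

variable {R₀ R B₀ B G : Type*} [CommRing R₀] [CommRing R] [CommRing B₀] [CommRing B]
  [Algebra R₀ R] [Algebra R₀ B₀] [Algebra R B] [Algebra R₀ B] [Algebra B₀ B]
  [IsScalarTower R₀ R B] [IsScalarTower R₀ B₀ B]
  [Group G] [Fintype G] [MulSemiringAction G B₀] [MulSemiringAction G B]
  [SMulCommClass G R₀ B₀] [SMulCommClass G R B]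

lemma algebraMap_rey (hequiv : ∀ (g : G) (b : B₀), algebraMap B₀ B (g • b) = g • algebraMap B₀ B b)
    (u₀ : R₀) (b : B₀) :
    algebraMap B₀ B (rey G u₀ b) = rey G (algebraMap R₀ R u₀) (algebraMap B₀ B b) := by
  rw [rey_apply, rey_apply, algebraMap_smul, ← IsScalarTower.toAlgHom_apply R₀ B₀ B, map_smul,
    map_sum]
  simp only [IsScalarTower.toAlgHom_apply, hequiv]

/-- The restriction of `B₀ → B` to invariants. -/
noncomputable def invMap
    (hequiv : ∀ (g : G) (b : B₀), algebraMap B₀ B (g • b) = g • algebraMap B₀ B b) :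
    FixedPoints.subalgebra R₀ B₀ G →ₐ[R₀] FixedPoints.subalgebra R B G where
  toFun c := ⟨algebraMap B₀ B c.1, fun g => by rw [← hequiv, c.2 g]⟩
  map_one' := Subtype.ext (map_one _)
  map_mul' x y := Subtype.ext (map_mul _ _ _)
  map_zero' := Subtype.ext (map_zero _)
  map_add' x y := Subtype.ext (map_add _ _ _)
  commutes' r := Subtype.ext (by
    simp only [Subalgebra.coe_algebraMap]
    exact (IsScalarTower.algebraMap_apply R₀ B₀ B r).symm)

/-- The comparison map `R ⊗ B₀^G → B^G`. -/
noncomputable def invBaseChange
    (hequiv : ∀ (g : G) (b : B₀), algebraMap B₀ B (g • b) = g • algebraMap B₀ B b) :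
    R ⊗[R₀] FixedPoints.subalgebra R₀ B₀ G →ₐ[R] FixedPoints.subalgebra R B G :=
  Algebra.TensorProduct.lift (Algebra.ofId R _) (invMap hequiv) (fun _ _ => Commute.all _ _)

lemma invBaseChange_tmul
    (hequiv : ∀ (g : G) (b : B₀), algebraMap B₀ B (g • b) = g • algebraMap B₀ B b)
    (r : R) (c : FixedPoints.subalgebra R₀ B₀ G) :
    ((invBaseChange (R := R) hequiv (r ⊗ₜ c) : FixedPoints.subalgebra R B G) : B) =
      algebraMap R B r * algebraMap B₀ B c.1 := by
  simp [invBaseChange, invMap, Algebra.ofId_apply]

variable [Algebra.IsPushout R₀ R B₀ B]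

lemma invBaseChange_eq
    (hequiv : ∀ (g : G) (b : B₀), algebraMap B₀ B (g • b) = g • algebraMap B₀ B b)
    (x : R ⊗[R₀] FixedPoints.subalgebra R₀ B₀ G) :
    ((invBaseChange (R := R) hequiv x : FixedPoints.subalgebra R B G) : B) =
      Algebra.IsPushout.equiv R₀ R B₀ B
        ((FixedPoints.subalgebra R₀ B₀ G).val.toLinearMap.lTensor R x) := by
  induction x using TensorProduct.induction_on with
  | zero => simp
  | tmul r c =>
    rw [invBaseChange_tmul, LinearMap.lTensor_tmul, Algebra.IsPushout.equiv_tmul]
    rfl
  | add x y hx hy =>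
    rw [map_add, map_add, map_add, ← hx, ← hy]
    rfl

lemma equiv_lTensor_rey
    (hequiv : ∀ (g : G) (b : B₀), algebraMap B₀ B (g • b) = g • algebraMap B₀ B b)
    (u₀ : R₀) (t : R ⊗[R₀] B₀) :
    Algebra.IsPushout.equiv R₀ R B₀ B ((rey G u₀).lTensor R t) =
      rey G (algebraMap R₀ R u₀) (Algebra.IsPushout.equiv R₀ R B₀ B t) := by
  induction t using TensorProduct.induction_on with
  | zero => simp
  | tmul r b =>
    have hfix : ∀ g : G, g • algebraMap R B r = algebraMap R B r := fun g => smul_algebraMap g r
    rw [LinearMap.lTensor_tmul, Algebra.IsPushout.equiv_tmul, Algebra.IsPushout.equiv_tmul,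
      rey_mul_of_fixed _ hfix, algebraMap_rey (R := R) hequiv]
  | add x y hx hy =>
    rw [map_add, map_add, map_add, map_add, hx, hy]

lemma invBaseChange_bijective
    (hequiv : ∀ (g : G) (b : B₀), algebraMap B₀ B (g • b) = g • algebraMap B₀ B b)
    (u₀ : R₀) (hu₀ : (Fintype.card G : R₀) * u₀ = 1) :
    Function.Bijective (invBaseChange (R₀ := R₀) (R := R) hequiv) := by
  set C₀ := FixedPoints.subalgebra R₀ B₀ G
  let ρ : B₀ →ₗ[R₀] C₀ := (reyC (R := R₀) G u₀).restrictScalars R₀
  have hρ : ρ ∘ₗ C₀.val.toLinearMap = LinearMap.id := by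
    ext c
    exact rey_of_fixed hu₀ c.2
  have hρ' : C₀.val.toLinearMap ∘ₗ ρ = rey G u₀ := by
    ext b
    rfl
  constructor
  · intro x y hxy
    have h1 : C₀.val.toLinearMap.lTensor R x = C₀.val.toLinearMap.lTensor R y := by
      apply (Algebra.IsPushout.equiv R₀ R B₀ B).injective
      rw [← invBaseChange_eq hequiv, ← invBaseChange_eq hequiv, hxy]
    have h2 := congrArg (ρ.lTensor R) h1
    rwa [← LinearMap.comp_apply, ← LinearMap.comp_apply, ← LinearMap.lTensor_comp, hρ,
      LinearMap.lTensor_id, LinearMap.id_apply, LinearMap.id_apply] at h2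
  · intro c
    let t := (Algebra.IsPushout.equiv R₀ R B₀ B).symm c.1
    refine ⟨ρ.lTensor R t, Subtype.ext ?_⟩
    rw [invBaseChange_eq hequiv, ← LinearMap.comp_apply, ← LinearMap.lTensor_comp, hρ',
      equiv_lTensor_rey hequiv, AlgEquiv.apply_symm_apply]
    refine rey_of_fixed ?_ c.2
    rw [← map_natCast (algebraMap R₀ R), ← map_mul, hu₀, map_one]

lemma finitePresentation_invariants_of_isPushout
    (hequiv : ∀ (g : G) (b : B₀), algebraMap B₀ B (g • b) = g • algebraMap B₀ B b)
    (u₀ : R₀) (hu₀ : (Fintype.card G : R₀) * u₀ = 1)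
    [Algebra.FinitePresentation R₀ (FixedPoints.subalgebra R₀ B₀ G)] :
    Algebra.FinitePresentation R (FixedPoints.subalgebra R B G) :=
  Algebra.FinitePresentation.equiv
    (AlgEquiv.ofBijective (invBaseChange (R₀ := R₀) (R := R) hequiv)
      (invBaseChange_bijective hequiv u₀ hu₀))

end BaseChange

section Poly

variable (G ι S : Type*) [Group G] [MulAction G ι] [CommRing S]

/-- Permutation action on a polynomial ring. -/
@[instance_reducible]
noncomputable def mvAction : MulSemiringAction G (MvPolynomial ι S) where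
  smul g p := MvPolynomial.rename (g • ·) p
  one_smul p := by
    change MvPolynomial.rename ((1 : G) • ·) p = p
    have : (((1 : G) • ·) : ι → ι) = id := funext (one_smul G)
    rw [this, MvPolynomial.rename_id_apply]
  mul_smul g h p := by
    change MvPolynomial.rename ((g * h) • ·) p =
      MvPolynomial.rename (g • ·) (MvPolynomial.rename (h • ·) p)
    have : (((g * h) • ·) : ι → ι) = (g • ·) ∘ (h • ·) := funext (fun i => mul_smul g h i)
    rw [MvPolynomial.rename_rename, this]
  smul_zero g := map_zero _
  smul_add g p q := map_add _ _ _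
  smul_one g := map_one _
  smul_mul g p q := map_mul _ _ _

attribute [local instance] mvAction

lemma mvAction_smul_def (g : G) (p : MvPolynomial ι S) :
    g • p = MvPolynomial.rename (g • ·) p := rfl

instance mvAction_smulCommClass : SMulCommClass G S (MvPolynomial ι S) where
  smul_comm g s p := by
    simp only [mvAction_smul_def, map_smul]

attribute [local instance] MvPolynomial.algebraMvPolynomial

variable {G ι} in
lemma finitePresentation_mvPolynomial_invariants [Fintype G] [Finite ι] (R : Type*) [CommRing R]
    (u : R) (hu : (Fintype.card G : R) * u = 1) :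
    Algebra.FinitePresentation R (FixedPoints.subalgebra R (MvPolynomial ι R) G) := by
  classical
  let Z : Subring R := (Polynomial.aeval (R := ℤ) u).toRingHom.range
  have huZ : u ∈ Z := ⟨Polynomial.X, by simp⟩
  let u₀ : Z := ⟨u, huZ⟩
  have hu₀ : (Fintype.card G : Z) * u₀ = 1 := Subtype.ext (by simpa using hu)
  have hnoeth : IsNoetherianRing Z := inferInstance
  have h1 : Algebra.FiniteType Z (FixedPoints.subalgebra Z (MvPolynomial ι Z) G) :=
    finiteType_invariants_of_noetherian
  have h2 : Algebra.FinitePresentation Z (FixedPoints.subalgebra Z (MvPolynomial ι Z) G) :=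
    (Algebra.FinitePresentation.of_finiteType (R := Z)
      (A := FixedPoints.subalgebra Z (MvPolynomial ι Z) G)).1 h1
  refine finitePresentation_invariants_of_isPushout (R₀ := Z) (B₀ := MvPolynomial ι Z) ?_ u₀ hu₀
  intro g b
  rw [MvPolynomial.algebraMap_def, mvAction_smul_def, mvAction_smul_def, MvPolynomial.map_rename]

end Poly

section Main

variable {R A G : Type*} [CommRing R] [CommRing A] [Algebra R A] [Group G] [Fintype G]
  [MulSemiringAction G A] [SMulCommClass G R A]

lemma algHom_rey {B : Type*} [CommRing B] [Algebra R B] [MulSemiringAction G B]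
    [SMulCommClass G R B] (f : B →ₐ[R] A) (hf : ∀ (g : G) b, f (g • b) = g • f b) (u : R) (b : B) :
    f (rey G u b) = rey G u (f b) := by
  rw [rey_apply, rey_apply, map_smul, map_sum]
  simp only [hf]

/-- The action of `G` on `G × T` by left translation on the first factor. -/
@[instance_reducible]
def prodAction (G T : Type*) [Group G] : MulAction G (G × T) where
  smul g x := (g * x.1, x.2)
  one_smul x := by
    change ((1 : G) * x.1, x.2) = x
    rw [one_mul]
  mul_smul g h x := by
    change ((g * h) * x.1, x.2) = (g * (h * x.1), x.2)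
    rw [mul_assoc]

theorem finitePresentation_fixedPoints [Algebra.FinitePresentation R A]
    (u : R) (hu : (Fintype.card G : R) * u = 1) :
    Algebra.FinitePresentation R (FixedPoints.subalgebra R A G) := by
  classical
  obtain ⟨s, hs⟩ := (Algebra.FiniteType.out : (⊤ : Subalgebra R A).FG)
  let ι := G × ↥s
  let _ : MulAction G ι := prodAction G ↥s
  let _ : MulSemiringAction G (MvPolynomial ι R) := mvAction G ι R
  have hsm : ∀ (g : G) (i : ι), g • i = (g * i.1, i.2) := fun g i => rfl
  let x : ι → A := fun i => i.1 • (i.2 : A)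
  let π : MvPolynomial ι R →ₐ[R] A := MvPolynomial.aeval x
  have hπg : ∀ (g : G) (p : MvPolynomial ι R), π (g • p) = g • π p := by
    intro g p
    rw [mvAction_smul_def, MvPolynomial.aeval_rename]
    have : (MulSemiringAction.toAlgHom R A g).comp π = MvPolynomial.aeval (x ∘ (g • ·)) := by
      apply MvPolynomial.algHom_ext
      intro i
      simp [π, x, hsm, mul_smul]
    exact (DFunLike.congr_fun this p).symm
  have hπ : Function.Surjective π := by
    rw [← AlgHom.range_eq_top, eq_top_iff, ← hs, Algebra.adjoin_le_iff]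
    intro a ha
    exact ⟨MvPolynomial.X (1, ⟨a, ha⟩), by simp [π, x]⟩
  set C := FixedPoints.subalgebra R (MvPolynomial ι R) G with hC
  let πG : C →ₐ[R] FixedPoints.subalgebra R A G :=
    AlgHom.codRestrict (π.comp C.val) _ (fun c g => by
      change g • π c.1 = π c.1
      rw [← hπg, c.2 g])
  have hsurjG : Function.Surjective πG := by
    intro a
    obtain ⟨p, hp⟩ := hπ a.1
    refine ⟨reyC G u p, Subtype.ext ?_⟩
    change π (rey G u p) = a.1
    rw [algHom_rey π hπg, hp, rey_of_fixed hu a.2]
  have hJ : (RingHom.ker π.toRingHom).FG :=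
    Algebra.FinitePresentation.ker_fG_of_surjective π hπ
  have hfin : Module.Finite C (MvPolynomial ι R) := finite_over_invariants
  have hJ' : ((RingHom.ker π.toRingHom).restrictScalars C).FG :=
    Submodule.FG.restrictScalars hJ
  have hker : RingHom.ker πG.toRingHom =
      Submodule.map (reyC G u) ((RingHom.ker π.toRingHom).restrictScalars C) := by
    ext c
    constructor
    · intro hc
      refine ⟨c.1, ?_, Subtype.ext (rey_of_fixed hu c.2)⟩
      exact congrArg Subtype.val hc
    · rintro ⟨p, hp, rfl⟩
      apply Subtype.ext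
      change π (rey G u p) = 0
      have hp0 : π p = 0 := hp
      rw [algHom_rey π hπg, hp0, map_zero]
  have hfp : Algebra.FinitePresentation R C :=
    finitePresentation_mvPolynomial_invariants R u hu
  exact Algebra.FinitePresentation.of_surjective hsurjG (hker ▸ hJ'.map _)

end Main

end Groth.Agent.Lib.Helper6.InvFP.Main
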